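import Mathlib.RingTheory.AdicCompletion.Exactness

/-! Exactness of adic completion under a shifted comparison of filtrations. -/

set_option autoImplicit false

universe u

namespace Groth.Agent.AdicExactLib

variable {R : Type u} [CommRing R] (I : Ideal R) {M N P : Type u} [AddCommGroup M] [Module R M]
  [AddCommGroup N] [Module R N] [AddCommGroup P] [Module R P]

/-- An injective map whose filtration comparison has a bounded shift stays injective. -/
theorem map_injective_of_shift (i : M →ₗ[R] N) (c : ℕ)
    (h : ∀ n (m : M), i m ∈ (I ^ (n + c) • ⊤ : Submodule R N) → m ∈ (I ^ n • ⊤ : Submodule R M)) :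
    Function.Injective (AdicCompletion.map I i) := by
  rw [← LinearMap.ker_eq_bot, LinearMap.ker_eq_bot']
  intro x
  induction x using AdicCompletion.induction_on with
  | _ a =>
    intro hx
    ext n
    have h1 : i (a (n + c)) ∈ (I ^ (n + c) • ⊤ : Submodule R N) := by
      simpa using congrArg (fun x ↦ x.val (n + c)) hx
    simp only [AdicCompletion.mk_apply_coe, Submodule.mkQ_apply, AdicCompletion.val_zero_apply]
    rw [← AdicCompletion.AdicCauchySequence.mk_eq_mk (show n ≤ n + c by omega) a,
      Submodule.Quotient.mk_eq_zero]
    exact h n _ h1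

/-- Exactness in the middle under a bounded shift of filtrations. -/
theorem map_exact_of_shift (i : M →ₗ[R] N) (g : N →ₗ[R] P) (hg : Function.Surjective g)
    (hig : Function.Exact i g) (c : ℕ)
    (h : ∀ n (m : M), i m ∈ (I ^ (n + c) • ⊤ : Submodule R N) → m ∈ (I ^ n • ⊤ : Submodule R M)) :
    Function.Exact (AdicCompletion.map I i) (AdicCompletion.map I g) := by
  refine LinearMap.exact_of_comp_eq_zero_of_ker_le_range ?_ (fun y ↦ ?_)
  · rw [AdicCompletion.map_comp, hig.linearMap_comp_eq_zero, AdicCompletion.map_zero]
  · induction y using AdicCompletion.induction_on with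
    | _ b =>
      intro hz
      have hb : ∀ n, ∃ a : M, i a - b n ∈ (I ^ n • ⊤ : Submodule R N) := by
        intro n
        have h1 : g (b n) ∈ (I ^ n • ⊤ : Submodule R P) := by
          simpa using congrArg (fun x ↦ x.val n) hz
        have h2 : g (b n) ∈ Submodule.map g (I ^ n • ⊤ : Submodule R N) := by
          rwa [Submodule.map_smul'', Submodule.map_top, LinearMap.range_eq_top.2 hg]
        obtain ⟨e, he, hge⟩ := h2
        obtain ⟨a, ha⟩ := (hig (b n - e)).1 (by rw [map_sub, hge, sub_self])
        exact ⟨a, by rw [ha, sub_sub_cancel_left]; exact Submodule.neg_mem _ he⟩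
      choose a ha using hb
      refine ⟨AdicCompletion.mk I M (AdicCompletion.AdicCauchySequence.mk I M (fun n ↦ a (n + c)) ?_), ?_⟩
      · intro n
        rw [SModEq.sub_mem]
        refine h n _ ?_
        have e : i (a (n + c) - a (n + 1 + c)) = (i (a (n + c)) - b (n + c)) -
            (i (a (n + 1 + c)) - b (n + 1 + c)) - (b (n + 1 + c) - b (n + c)) := by
          rw [map_sub]; abel
        rw [e]
        refine Submodule.sub_mem _ (Submodule.sub_mem _ (ha _) ?_) ?_
        · exact Submodule.smul_mono_left (Ideal.pow_le_pow_right (by omega)) (ha _)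
        · rw [← Submodule.Quotient.eq]
          exact AdicCompletion.AdicCauchySequence.mk_eq_mk (by omega) b
      · ext n
        simp only [AdicCompletion.map_mk, AdicCompletion.mk_apply_coe, Submodule.mkQ_apply,
          AdicCompletion.AdicCauchySequence.map_apply_coe, AdicCompletion.AdicCauchySequence.mk_coe]
        rw [← AdicCompletion.AdicCauchySequence.mk_eq_mk (show n ≤ n + c by omega) b,
          Submodule.Quotient.eq]
        exact Submodule.smul_mono_left (Ideal.pow_le_pow_right (by omega)) (ha (n + c))

/-- An element of `span (range g) • ⊤` is a combination of the `g j`. -/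
theorem exists_sum_of_mem_span_smul {ι : Type*} [Fintype ι] (g : ι → R) {x : M}
    (hx : x ∈ (Ideal.span (Set.range g) • ⊤ : Submodule R M)) : ∃ m : ι → M, ∑ j, g j • m j = x := by
  induction hx using Submodule.smul_induction_on' with
  | smul r hr n _ =>
    obtain ⟨c, hc⟩ := (Ideal.mem_span_range_iff_exists_fun).1 hr
    refine ⟨fun j => c j • n, ?_⟩
    simp only [← hc, Finset.sum_smul, smul_smul]
    exact Finset.sum_congr rfl fun j _ => by rw [mul_comm]
  | add a _ b _ ha hb =>
    obtain ⟨m, rfl⟩ := ha
    obtain ⟨m', rfl⟩ := hb
    exact ⟨m + m', by simp [smul_add, Finset.sum_add_distrib]⟩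

end Groth.Agent.AdicExactLib
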